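import Groth.Agent.AlgStBasic.LocQApps
import Groth.Agent.AlgStBasic.LocalLift
import Groth.Agent.AlgStBasic.StCompact
import Groth.Agent.AlgSpBasic.Topology
import Groth.Agent.AlgGrp1.Sub
import Groth.Agent.AlgSp2.FppfProps

/-!
# Pairs of points of a smooth chart with isomorphic images
-/

set_option autoImplicit false
set_option backward.isDefEq.respectTransparency false
set_option backward.isDefEq.respectTransparency.types false

universe u

open CategoryTheory CategoryTheory.Limits AlgebraicGeometry Opposite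

noncomputable section

namespace Groth.StkRed

open Groth.StkBase Groth.AlgStBasic Groth.AlgSpBasic

variable {S : Scheme.{u}} {𝒳 : AlgSt.Cat S}

/-- The functor of slices under a map of representable sheaves. -/
theorem iso_overMap_of_spMap {W U : Over S}
    (Φ : AlgSt.ofSp ((AlgSp.yon S).obj W) ⥤ᵇ FibCat.overCat U) (c : W ⟶ U)
    (h : (AlgSp.yon S).map c = AlgSt.spMapOfOver Φ) :
    Nonempty (BasedFunctor.comp (AlgSt.ofOverCat W) Φ ≅ AlgSt.overMap c) := by
  obtain ⟨β⟩ := nonempty_iso_pshMapOf (BasedFunctor.comp Φ (AlgSt.ofOverCat U))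
  have e : ((AlgSp.yon S).map c).hom = pshMapOf (BasedFunctor.comp Φ (AlgSt.ofOverCat U)) := by
    rw [h, spMapOfOver_hom_eq]
  have γ : BasedFunctor.comp Φ (AlgSt.ofOverCat U) ≅ AlgSt.ofSpMap ((AlgSp.yon S).map c) :=
    β.trans (eqToIso (congrArg Stk.ofPshMap e.symm))
  exact ⟨whiskerLeftIso (AlgSt.ofOverCat W) (whiskerRightIso γ (AlgSt.toOverCat U))⟩

/-- A scheme covering the pairs of points of a chart with isomorphic images. -/
theorem exists_pair_cover {U : Over S} {x : FibCat.overCat U ⥤ᵇ 𝒳}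
    (hx : AlgSt.RepByAlgSpWith (AlgSp.LocP @Smooth) x) :
    ∃ (W : Over S) (c d : W ⟶ U), Smooth c.left ∧ Smooth d.left ∧
      Nonempty (BasedFunctor.comp (AlgSt.overMap c) x ≅ BasedFunctor.comp (AlgSt.overMap d) x) ∧
      ∀ ⦃V : Over S⦄ (a b : V ⟶ U),
        Nonempty (BasedFunctor.comp (AlgSt.overMap a) x ≅ BasedFunctor.comp (AlgSt.overMap b) x) →
        ∃ R ∈ AlgSp.J S V, ∀ ⦃V' : Over S⦄ (j : V' ⟶ V), R.arrows j →
          ∃ h : V' ⟶ W, h ≫ c = j ≫ a ∧ h ≫ d = j ≫ b := by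
  obtain ⟨F, e, he⟩ := repWith_repByAlgSp1 hx U x
  let Φ₁ := BasedFunctor.comp e (FibCat.fpFst x x)
  let Φ₂ := BasedFunctor.comp e (FibCat.fpSnd x x)
  have q₁ : AlgSp.LocP @Smooth (AlgSt.spMapOfOver Φ₁) :=
    prop_of_repWith_fp stableBaseChange_locP hx x F e he
  let Ψ : AlgSt.ofSp F.obj ⥤ᵇ AlgSt.ofSp ((AlgSp.yon S).obj U) :=
    BasedFunctor.comp Φ₂ (AlgSt.ofOverCat U)
  have q₂ : AlgSp.LocP @Smooth (mapOf Ψ) :=
    locP_smooth_mapOf F.property (AlgSp.IsAlgSpace.yon_obj U)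
      ((repWith_postcomp_equiv _ (isEquivOver_ofOverCat U)).2
        ((repWith_precomp_equiv he _).2 (repWith_fpSnd x x hx)))
  have hΨ : mapOf Ψ = AlgSt.spMapOfOver Φ₂ := by
    apply Sheaf.hom_ext
    exact (spMapOfOver_hom_eq Φ₂).symm
  rw [hΨ] at q₂
  obtain ⟨W, r, hr, hrs⟩ := F.property.atlas
  obtain ⟨c, hc⟩ := (AlgSp.yon S).map_surjective (r ≫ AlgSt.spMapOfOver Φ₁)
  obtain ⟨d, hd⟩ := (AlgSp.yon S).map_surjective (r ≫ AlgSt.spMapOfOver Φ₂)
  let Ω := BasedFunctor.comp (AlgSt.ofSpMap r) e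
  have hΩ : ∀ (Φ : AlgSt.ofSp F.obj ⥤ᵇ FibCat.overCat U) (k : W ⟶ U),
      (AlgSp.yon S).map k = r ≫ AlgSt.spMapOfOver Φ →
      (AlgSp.yon S).map k = AlgSt.spMapOfOver (BasedFunctor.comp (AlgSt.ofSpMap r) Φ) := by
    intro Φ k hk
    rw [hk]
    apply Sheaf.hom_ext
    rw [spMapOfOver_hom_eq (BasedFunctor.comp (AlgSt.ofSpMap r) Φ)]
    show r.hom ≫ (AlgSt.spMapOfOver Φ).hom = _
    rw [spMapOfOver_hom_eq Φ, ← pshMapOf_ofPshMap r.hom, ← pshMapOf_comp]
    rfl
  refine ⟨W, c, d, q₁ r (𝟙 _) c hr (AlgSp.repWith_id @Etale U) (by rw [Category.comp_id, hc]),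
    q₂ r (𝟙 _) d hr (AlgSp.repWith_id @Etale U) (by rw [Category.comp_id, hd]), ?_, ?_⟩
  · obtain ⟨γ₁⟩ := iso_overMap_of_spMap _ c (hΩ Φ₁ c hc)
    obtain ⟨γ₂⟩ := iso_overMap_of_spMap _ d (hΩ Φ₂ d hd)
    exact ⟨(whiskerRightIso γ₁.symm x).trans
      ((whiskerLeftIso (BasedFunctor.comp (AlgSt.ofOverCat W) Ω) (FibCat.fpIso x x)).trans
        (whiskerRightIso γ₂ x))⟩
  · rintro V a b ⟨w⟩
    obtain ⟨E', hE', -, ⟨β⟩⟩ := isEquivOver_symm he
    let L := FibCat.fpLift (F := x) (G := x) (AlgSt.overMap a) (AlgSt.overMap b) w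
    let Θ : AlgSt.ofSp ((AlgSp.yon S).obj V) ⥤ᵇ AlgSt.ofSp F.obj :=
      BasedFunctor.comp (AlgSt.toOverCat V) (BasedFunctor.comp L E')
    let t : (AlgSp.yon S).obj V ⟶ F.obj := ⟨pshMapOf Θ⟩
    have ht : ∀ (k : V ⟶ U) (Φ : FibCat.fp x x ⥤ᵇ FibCat.overCat U),
        BasedFunctor.comp L Φ = AlgSt.overMap k →
        t ≫ AlgSt.spMapOfOver (BasedFunctor.comp e Φ) = (AlgSp.yon S).map k := by
      intro k Φ hk
      apply Sheaf.hom_ext
      show pshMapOf Θ ≫ (AlgSt.spMapOfOver (BasedFunctor.comp e Φ)).hom = ((AlgSp.yon S).map k).hom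
      rw [spMapOfOver_hom_eq, ← pshMapOf_comp]
      let A : AlgSt.ofSch V ⥤ᵇ AlgSt.ofSch U :=
        BasedFunctor.comp (AlgSt.toOverCat V) (BasedFunctor.comp (BasedFunctor.comp L Φ) (AlgSt.ofOverCat U))
      have α : BasedFunctor.comp Θ (BasedFunctor.comp (BasedFunctor.comp e Φ) (AlgSt.ofOverCat U)) ≅ A :=
        whiskerLeftIso (BasedFunctor.comp (AlgSt.toOverCat V) L)
          (whiskerRightIso β (BasedFunctor.comp Φ (AlgSt.ofOverCat U)))
      refine (pshMapOf_eq_of_iso α).trans ?_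
      simp only [A, hk]
      exact pshMapOf_ofPshMap ((AlgSp.yon S).map k).hom
    have h₁ := ht a (FibCat.fpFst x x) rfl
    have h₂ := ht b (FibCat.fpSnd x x) rfl
    obtain ⟨P, snd, fst, sq⟩ := hr.rep t
    have he₁ : Etale snd.left := hr.property t fst snd sq
    have hs₁ : Surjective snd.left := hrs.property t fst snd sq
    refine ⟨Sieve.generate (Presieve.singleton snd), generate_singleton_mem snd, ?_⟩
    rintro V' j ⟨_, l, _, ⟨⟩, rfl⟩
    obtain ⟨h, hh⟩ := (AlgSp.yon S).map_surjective fst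
    refine ⟨l ≫ h, ?_, ?_⟩
    · rw [Category.assoc, Category.assoc]
      refine congrArg (l ≫ ·) ((AlgSp.yon S).map_injective ?_)
      rw [Functor.map_comp, Functor.map_comp, hc, hh, ← Category.assoc, sq.w, Category.assoc, h₁]
    · rw [Category.assoc, Category.assoc]
      refine congrArg (l ≫ ·) ((AlgSp.yon S).map_injective ?_)
      rw [Functor.map_comp, Functor.map_comp, hd, hh, ← Category.assoc, sq.w, Category.assoc, h₂]

/-- Factorization through a monomorphism is local. -/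
theorem exists_factor_of_covering {Z U V : Over S} {i : Z ⟶ U} [Mono i] (g : V ⟶ U) {R : Sieve V}
    (hR : R ∈ AlgSp.J S V) (h : ∀ ⦃V' : Over S⦄ (j : V' ⟶ V), R.arrows j → ∃ k, k ≫ i = j ≫ g) :
    ∃ k, k ≫ i = g := by
  have hs : ∀ (A : Over S), Presieve.IsSheaf (AlgSp.J S) ((AlgSp.yon S).obj A).obj := fun A =>
    (isSheaf_iff_isSheaf_of_type _ _).1 ((AlgSp.yon S).obj A).property
  choose k hk using h
  let xf : Presieve.FamilyOfElements ((AlgSp.yon S).obj Z).obj R.arrows := fun V' j hj => ⟨k j hj⟩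
  have hc : xf.Compatible := fun V₁ V₂ T g₁ g₂ f₁ f₂ h₁ h₂ e => by
    refine congrArg ULift.up ((cancel_mono i).1 ?_)
    show (g₁ ≫ k f₁ h₁) ≫ i = (g₂ ≫ k f₂ h₂) ≫ i
    rw [Category.assoc, Category.assoc, hk, hk, ← Category.assoc, e, Category.assoc]
  obtain ⟨z, hz, -⟩ := hs Z R hR xf hc
  refine ⟨z.down, congrArg ULift.down ((hs U R hR).isSeparatedFor.ext (t₁ := ⟨z.down ≫ i⟩) (t₂ := ⟨g⟩)
    fun V' j hj => ?_)⟩
  refine congrArg ULift.up ?_
  show j ≫ z.down ≫ i = j ≫ g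
  rw [← Category.assoc, show j ≫ z.down = k j hj from congrArg ULift.down (hz j hj), hk]

/-- The reduced closed subscheme on a closed subset. -/
theorem exists_reduced_on (X : Over S) (C : TopologicalSpace.Closeds X.left) :
    ∃ (Z : Over S) (c : Z ⟶ X), IsClosedImmersion c.left ∧ IsReduced Z.left ∧
      Set.range c.left.base = (C : Set X.left) := by
  let I := Scheme.IdealSheafData.vanishingIdeal C
  obtain ⟨Z, c, hc, hs, hr⟩ := Groth.AlgGrp1.exists_reduced (Over.mk (I.subschemeι ≫ X.hom))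
  refine ⟨Z, c ≫ Over.homMk I.subschemeι rfl, ?_, hr, ?_⟩
  · exact inferInstanceAs (IsClosedImmersion (c.left ≫ I.subschemeι))
  · rw [Over.comp_left, Scheme.Hom.comp_base, TopCat.coe_comp, Set.range_comp, hs.surj.range_eq,
      Set.image_univ]
    show Set.range I.subschemeι.base = _
    rw [Scheme.IdealSheafData.range_subschemeι, Scheme.IdealSheafData.coe_support_vanishingIdeal]

/-- If two maps to a chart have isomorphic images and one factors through a reduced closed invariant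
subscheme, so does the other. -/
theorem exists_factor_of_iso {U Z : Over S} {x : FibCat.overCat U ⥤ᵇ 𝒳}
    (hx : AlgSt.RepByAlgSpWith (AlgSp.LocP @Smooth) x) (hX : FibCat.IsFibGrpd 𝒳.p)
    (i : Z ⟶ U) [IsClosedImmersion i.left] [IsReduced Z.left] (T : Set (AlgSt.Points 𝒳))
    (hi : Set.range i.left.base = AlgSt.Points.ofChart x ⁻¹' T) {V : Over S} (a b : V ⟶ U)
    (hw : Nonempty (BasedFunctor.comp (AlgSt.overMap a) x ≅ BasedFunctor.comp (AlgSt.overMap b) x))
    (ha : ∃ k, k ≫ i = a) : ∃ k, k ≫ i = b := by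
  have : Mono i := (Over.forget S).mono_of_mono_map (inferInstanceAs (Mono i.left))
  obtain ⟨W, c, d, hc, hd, ⟨ω⟩, hW⟩ := exists_pair_cover hx
  obtain ⟨R, hR, hR'⟩ := hW a b hw
  obtain ⟨k₀, hk₀⟩ := ha
  refine exists_factor_of_covering b hR fun V' j hj => ?_
  obtain ⟨h, h₁, h₂⟩ := hR' j hj
  let P : Over S := Over.mk (pullback.fst c.left i.left ≫ W.hom)
  let p : P ⟶ W := Over.homMk (pullback.fst c.left i.left) rfl
  have : Smooth (pullback.snd c.left i.left) := MorphismProperty.pullback_snd _ _ hc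
  have : IsReduced P.left := Groth.AlgSp2.isReduced_of_smooth_morphism (pullback.snd c.left i.left)
  have hsub : Set.range (p ≫ d).left.base ⊆ Set.range i.left.base := by
    rintro _ ⟨y, rfl⟩
    rw [hi]
    show AlgSt.Points.ofChart x (d.left (p.left y)) ∈ T
    rw [← ofChart_overMap, ← ofChart_eq_of_iso ω, ofChart_overMap]
    have : c.left (p.left y) ∈ Set.range i.left.base :=
      ⟨pullback.snd c.left i.left y, (congrArg (fun m => (m : _ ⟶ U.left) y) pullback.condition).symm⟩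
    rw [hi] at this
    exact this
  obtain ⟨m, hm⟩ := Groth.AlgGrp1.exists_factor_of_range_subset i (p ≫ d) hsub
  let n : V' ⟶ P := Over.homMk (pullback.lift h.left (j ≫ k₀).left
    (by rw [← Over.comp_left, ← Over.comp_left, h₁, Category.assoc, hk₀])) (by
      show pullback.lift _ _ _ ≫ pullback.fst c.left i.left ≫ W.hom = _
      rw [pullback.lift_fst_assoc, Over.w])
  have hn : n ≫ p = h := Over.OverMorphism.ext (pullback.lift_fst _ _ _)
  refine ⟨n ≫ m, ?_⟩
  rw [Category.assoc, hm, ← Category.assoc, hn, h₂]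

end Groth.StkRed
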