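import Groth.Agent.StkRed.PairChart
import Groth.Agent.StkGerb.Over
import Groth.Agent.StkBase.Descent2
import Groth.Agent.StkBG.LocCover
import Groth.Agent.AlgStBasic.OpenSub
import Groth.Agent.AlgStBasic.SetoidSpace
import Groth.Agent.AlgSp2.AffineRows
import Groth.Agent.ResGerbe.Mono

/-!
# Reduced closed substacks
-/

set_option autoImplicit false
set_option backward.isDefEq.respectTransparency false
set_option backward.isDefEq.respectTransparency.types false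

universe u v₂ u₂ v₁ u₁ v w

open CategoryTheory CategoryTheory.Limits AlgebraicGeometry Opposite

noncomputable section

namespace Groth.StkRed

open Groth.StkBase Groth.AlgStBasic Groth.AlgSpBasic

section LocIm

variable {C : Type w} [Category.{v} C] {J : GrothendieckTopology C}
variable {𝒳 : BasedCategory.{v₂, u₂} C} {𝒵 : BasedCategory.{v₁, u₁} C}

/-- The objects which locally come from the source of a functor. -/
def locIm (J : GrothendieckTopology C) (hZ : FibCat.IsFibGrpd 𝒵.p) (F : 𝒵 ⥤ᵇ 𝒳) (ξ : 𝒳.obj) : Prop :=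
  StkGerb.objSieve hZ F ξ ∈ J (𝒳.p.obj ξ)

theorem locIm_obj (hZ : FibCat.IsFibGrpd 𝒵.p) (F : 𝒵 ⥤ᵇ 𝒳) (z : 𝒵.obj) : locIm J hZ F (F.obj z) := by
  refine J.superset_covering (fun V f _ => ?_) (J.top_mem _)
  obtain ⟨z', l, hz', hl⟩ := exists_lift' hZ (x := z) (f ≫ eqToHom (F.w_obj z))
  exact ⟨z', F.map l, IsHomLift.of_fac' _ _ _ ((F.w_obj z').trans hz') rfl (by simp [map_map, hl])⟩

theorem locIm_of_hom (hX : FibCat.IsFibGrpd 𝒳.p) (hZ : FibCat.IsFibGrpd 𝒵.p) (F : 𝒵 ⥤ᵇ 𝒳)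
    {η ξ : 𝒳.obj} (l : η ⟶ ξ) (h : locIm J hZ F ξ) : locIm J hZ F η := by
  refine J.superset_covering ?_ (J.pullback_stable (𝒳.p.map l) h)
  rintro V f ⟨z, g, hg⟩
  obtain ⟨h₁, h₂, e⟩ := (isHomLift_iff_eqToHom _ _).1 hg
  exact ⟨z, factor hX l g (eqToHom h₁ ≫ f) (by rw [e]; simp),
    IsHomLift.of_fac' _ _ _ h₁ rfl (by rw [factor_map]; simp)⟩

theorem locIm_of_local (hZ : FibCat.IsFibGrpd 𝒵.p) (F : 𝒵 ⥤ᵇ 𝒳) {ξ : 𝒳.obj} {R : Sieve (𝒳.p.obj ξ)}
    (hR : R ∈ J _) (h : ∀ ⦃V : C⦄ (f : V ⟶ 𝒳.p.obj ξ), R f →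
      ∃ (η : 𝒳.obj) (l : η ⟶ ξ), 𝒳.p.IsHomLift f l ∧ locIm J hZ F η) : locIm J hZ F ξ := by
  refine J.transitive hR _ fun V f hf => ?_
  obtain ⟨η, l, hl, hη⟩ := h f hf
  obtain ⟨h₁, h₂, el⟩ := (isHomLift_iff_eqToHom _ _).1 hl
  refine J.superset_covering ?_ (J.pullback_stable (eqToHom h₁.symm) hη)
  rintro W k ⟨z, g, hg⟩
  obtain ⟨a₁, a₂, eg⟩ := (isHomLift_iff_eqToHom _ _).1 hg
  exact ⟨z, g ≫ l, IsHomLift.of_fac' _ _ _ a₁ rfl (by simp [el, eg])⟩

theorem locIm_iso (hX : FibCat.IsFibGrpd 𝒳.p) (hZ : FibCat.IsFibGrpd 𝒵.p) (F : 𝒵 ⥤ᵇ 𝒳) :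
    ObjectProperty.IsClosedUnderIsomorphisms (locIm J hZ F) :=
  ⟨fun e h => locIm_of_hom hX hZ F e.inv h⟩

end LocIm

theorem isFibGrpd_locIm {S : Scheme.{u}} {𝒳 𝒵 : AlgSt.Cat S} (hX : FibCat.IsFibGrpd 𝒳.p)
    (hZ : FibCat.IsFibGrpd 𝒵.p) (F : 𝒵 ⥤ᵇ 𝒳) :
    FibCat.IsFibGrpd (AlgSt.fullSub 𝒳 (locIm (AlgSp.J S) hZ F)).p := by
  have : (AlgSt.subIncl 𝒳 (locIm (AlgSp.J S) hZ F)).toFunctor.Full := inferInstanceAs (ObjectProperty.ι _).Full
  have : (AlgSt.subIncl 𝒳 (locIm (AlgSp.J S) hZ F)).toFunctor.Faithful :=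
    inferInstanceAs (ObjectProperty.ι _).Faithful
  exact isFibGrpd_of_fullyFaithful hX (AlgSt.subIncl 𝒳 (locIm (AlgSp.J S) hZ F)) fun y x l =>
    ⟨⟨y, locIm_of_hom hX hZ F l x.property⟩, Iso.refl _, isVert_id _⟩


variable {S : Scheme.{u}} {𝒳 𝒴 : AlgSt.Cat S}

/-- A smooth surjective chart has sections over a single fppf covering of every scheme. -/
theorem exists_cover_lift {U : Over S} {x : FibCat.overCat U ⥤ᵇ 𝒳}
    (hx : AlgSt.RepByAlgSpWith (AlgSp.LocP @Smooth) x)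
    (hxs : AlgSt.RepByAlgSpWith AlgSp.IsSurjectiveMor x) : StkBG.CovLift x := by
  intro V y
  obtain ⟨F, e, he⟩ := repWith_repByAlgSp1 hx V y
  have q₁ := prop_of_repWith_fp stableBaseChange_locP hx y F e he
  have q₃ := prop_of_repWith_fp stableBaseChange_surjective hxs y F e he
  obtain ⟨W, r, hr, hrs⟩ := F.property.atlas
  obtain ⟨c, hc⟩ := (AlgSp.yon S).map_surjective
    (r ≫ AlgSt.spMapOfOver (BasedFunctor.comp e (FibCat.fpFst y x)))
  have hcm : Smooth c.left := q₁ r (𝟙 _) c hr (AlgSp.repWith_id @Etale V) (by rw [Category.comp_id, hc])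
  have hcs : Surjective c.left := ⟨fun v => by
    obtain ⟨z, hz⟩ := q₃ (AlgSp.Points.schemeHomeo V v)
    obtain ⟨t, rfl⟩ := surjective_ofPt_of_repWith hrs z
    refine ⟨t, (AlgSp.Points.schemeHomeo V).injective ?_⟩
    rw [← hz, ofPt_eq_map, ← AlgSp.Points.map_comp, ← hc]
    exact (AlgSp.Points.map_yon_map_apply _ _).symm⟩
  obtain ⟨z, hz⟩ := exists_lift_of_section y e r c hc
  exact ⟨W, c, z, ⟨inferInstance, inferInstance, hcs⟩, hz⟩

theorem repWith_overMap_closedImm {U V : Over S} (g : U ⟶ V) (hg : IsClosedImmersion g.left) :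
    AlgSt.RepByAlgSpWith (AlgSp.RepWith @IsClosedImmersion) (AlgSt.overMap g) := by
  have h : AlgSt.RepByAlgSpWith (AlgSp.RepWith @IsClosedImmersion)
      (BasedFunctor.comp (AlgSt.ofOverCat U)
        (BasedFunctor.comp (AlgSt.ofSpMap ((AlgSp.yon S).map g)) (AlgSt.toOverCat V))) :=
    (repWith_precomp_equiv (isEquivOver_ofOverCat U) _).2
      ((repWith_postcomp_equiv _ (isEquivOver_toOverCat V)).2
        (repWith_ofPshMap_of_stable (F := ⟨_, AlgSp.IsAlgSpace.yon_obj U⟩)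
          (G := ⟨_, AlgSp.IsAlgSpace.yon_obj V⟩) (stableBaseChange_repWith _) _
          ((AlgSp.repWith_yon_map_iff _ g).2 hg)))
  exact h

variable (h𝒳 : AlgSt.IsAlgStack Scheme.fppfPrecoverage 𝒳)

section Sub

variable {U Z : Over S} {x : FibCat.overCat U ⥤ᵇ 𝒳} (i : Z ⟶ U)

/-- The objects which locally come from the closed part of the chart. -/
def redQ (x : FibCat.overCat U ⥤ᵇ 𝒳) (i : Z ⟶ U) : 𝒳.obj → Prop :=
  locIm (AlgSp.J S) (isFibGrpd_overCat Z) (BasedFunctor.comp (AlgSt.overMap i) x)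

include h𝒳

theorem factor_of_redQ [IsClosedImmersion i.left] [IsReduced Z.left]
    (hx : AlgSt.RepByAlgSpWith (AlgSp.LocP @Smooth) x) (T : Set (AlgSt.Points 𝒳))
    (hi : Set.range i.left.base = AlgSt.Points.ofChart x ⁻¹' T) (g : (FibCat.overCat U).obj)
    (hg : redQ x i (x.obj g)) : ∃ k, k ≫ i = g.hom := by
  have : Mono i := (Over.forget S).mono_of_mono_map (inferInstanceAs (Mono i.left))
  refine exists_factor_of_covering g.hom
    ((AlgSp.J S).pullback_stable (eqToHom (x.w_obj g).symm) hg) fun V j hj => ?_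
  obtain ⟨z, l, hl⟩ := hj
  obtain ⟨h₁, h₂, el⟩ := (isHomLift_iff_eqToHom _ _).1 hl
  have e₀ : V = z.left := h₁.symm.trans ((BasedFunctor.comp (AlgSt.overMap i) x).w_obj z)
  let m₁ : Over.mk (𝟙 V ≫ (eqToHom e₀ ≫ z.hom) ≫ i) ⟶ (AlgSt.overMap i).obj z :=
    Over.homMk (eqToHom e₀) (by show eqToHom e₀ ≫ z.hom ≫ i = _; simp)
  let m₂ : Over.mk (𝟙 V ≫ j ≫ g.hom) ⟶ g := Over.homMk j (by simp)
  obtain ⟨φ, hφ, -⟩ := exists_vert_iso_of_lifts h𝒳.isStack.1 (x.map m₁ ≫ l) (x.map m₂)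
    ((x.w_obj (Over.mk (𝟙 V ≫ (eqToHom e₀ ≫ z.hom) ≫ i))).trans
      (x.w_obj (Over.mk (𝟙 V ≫ j ≫ g.hom))).symm) (by
      rw [Functor.map_comp, map_map, map_map, el]
      show (eqToHom _ ≫ eqToHom e₀ ≫ eqToHom _) ≫ eqToHom _ ≫ (j ≫ _) ≫ eqToHom _ =
        eqToHom _ ≫ eqToHom _ ≫ j ≫ eqToHom _
      simp)
  exact exists_factor_of_iso hx h𝒳.isStack.1 i T hi ((eqToHom e₀ ≫ z.hom) ≫ i) (j ≫ g.hom)
    ((nonempty_overIso_iff h𝒳.isStack.1 _ _).2 ⟨φ.hom, hφ⟩) ⟨_, rfl⟩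

omit h𝒳 in
theorem redQ_obj (g : (FibCat.overCat Z).obj) : redQ x i (x.obj ((AlgSt.overMap i).obj g)) :=
  locIm_obj _ (BasedFunctor.comp (AlgSt.overMap i) x) g

omit h𝒳 in
/-- The closed part of the chart, mapped to the substack. -/
def redChart : FibCat.overCat Z ⥤ᵇ AlgSt.fullSub 𝒳 (redQ x i) where
  toFunctor := ObjectProperty.lift _ (BasedFunctor.comp (AlgSt.overMap i) x).toFunctor (redQ_obj i)
  w := (BasedFunctor.comp (AlgSt.overMap i) x).w

omit h𝒳 in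
/-- The closed part of the chart as the fibre product. -/
def redLift : FibCat.overCat Z ⥤ᵇ FibCat.fp x (AlgSt.subIncl 𝒳 (redQ x i)) :=
  FibCat.fpLift (F := x) (G := AlgSt.subIncl 𝒳 (redQ x i)) (AlgSt.overMap i) (redChart i) (Iso.refl _)

theorem isEquivOver_redLift [IsClosedImmersion i.left] [IsReduced Z.left]
    (hx : AlgSt.RepByAlgSpWith (AlgSp.LocP @Smooth) x) (T : Set (AlgSt.Points 𝒳))
    (hi : Set.range i.left.base = AlgSt.Points.ofChart x ⁻¹' T) :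
    FibCat.IsEquivOver (redLift (x := x) i) := by
  have hj : Mono i.left := inferInstance
  have hm : Mono i := (Over.forget S).mono_of_mono_map hj
  refine isEquivOver_of_fullyFaithful _ ⟨fun {g g'} h => ?_⟩ ⟨fun {g g'} a b e => ?_⟩ (fun p => ?_)
  · have hw : h.hom.fst.left ≫ g'.hom ≫ i = g.hom ≫ i := Over.w h.hom.fst
    let a : g ⟶ g' := Over.homMk h.hom.fst.left ((cancel_mono i).1 (by rw [Category.assoc, hw]))
    refine ⟨a, fp_hom_ext (Over.OverMorphism.ext rfl) ?_⟩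
    have w := h.hom.w
    simp [redLift, redChart, FibCat.fpLift, AlgSt.subIncl] at w
    have w' : x.map h.hom.fst = h.hom.snd.hom :=
      ((Category.comp_id _).symm.trans w).trans (Category.id_comp _)
    apply ObjectProperty.hom_ext
    exact (congrArg x.map (Over.OverMorphism.ext rfl)).trans w'
  · exact Over.OverMorphism.ext (congrArg (fun t => t.hom.fst.left) e)
  · obtain ⟨k, hk⟩ := factor_of_redQ h𝒳 i hx T hi p.obj.fst
      (locIm_of_hom h𝒳.isStack.1 _ _ p.obj.iso.hom p.obj.snd.property)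
    let φ : (AlgSt.overMap i).obj (Over.mk k) ≅ p.obj.fst :=
      Over.isoMk (Iso.refl _) (by show 𝟙 _ ≫ p.obj.fst.hom = k ≫ i; rw [hk, Category.id_comp])
    let ψ : (redChart i).obj (Over.mk k) ≅ p.obj.snd :=
      (ObjectProperty.fullyFaithfulι _).preimageIso (x.toFunctor.mapIso φ ≪≫ p.obj.iso)
    refine ⟨Over.mk k, fpObjIso φ ψ ?_, ?_⟩
    · simp [redLift, redChart, ψ, FibCat.fpLift, AlgSt.subIncl]
      exact (Category.id_comp _).symm
    · exact ⟨rfl, rfl⟩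

theorem isClosedSubstack_redQ [IsClosedImmersion i.left] [IsReduced Z.left]
    (hx : AlgSt.RepByAlgSpWith (AlgSp.LocP @Smooth) x)
    (hxs : AlgSt.RepByAlgSpWith AlgSp.IsSurjectiveMor x) (T : Set (AlgSt.Points 𝒳))
    (hi : Set.range i.left.base = AlgSt.Points.ofChart x ⁻¹' T) :
    AlgSt.IsClosedSubstack 𝒳 (redQ x i) Scheme.fppfPrecoverage := by
  let f := AlgSt.subIncl 𝒳 (redQ x i)
  have hQ : FibCat.IsFibGrpd (AlgSt.fullSub 𝒳 (redQ x i)).p := isFibGrpd_locIm h𝒳.isStack.1 _ _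
  have : f.toFunctor.Faithful := inferInstanceAs (ObjectProperty.ι _).Faithful
  have hfst : AlgSt.RepByAlgSpWith (AlgSp.RepWith @IsClosedImmersion) (FibCat.fpFst x f) :=
    (repWith_precomp_equiv (isEquivOver_redLift h𝒳 i hx T hi) _).1
      (repWith_overMap_closedImm i inferInstance)
  have hst : Stk.IsStack (AlgSp.J S) (AlgSt.fullSub 𝒳 (redQ x i)) :=
    isStack_fullSub (AlgSp.J S) h𝒳.isStack _
      (fun y z l hz => ⟨y, Iso.refl _, locIm_of_hom h𝒳.isStack.1 _ _ l hz, isVert_id _⟩)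
      fun V R hR ξ hξ h => by
        subst hξ
        refine ⟨ξ, Iso.refl _, locIm_of_local _ _ hR fun W g hg => ?_, isVert_id _⟩
        obtain ⟨η, l, hη, hl⟩ := exists_lift' h𝒳.isStack.1 (x := ξ) g
        have hlift : 𝒳.p.IsHomLift g l := IsHomLift.of_fac' _ _ _ hη rfl (by simp [hl])
        obtain ⟨η', e, he, -⟩ := h g hg η l hlift
        exact ⟨η, l, hlift, locIm_of_hom h𝒳.isStack.1 _ _ e.hom he⟩
  have hcov := exists_cover_lift hx hxs
  have hrep : AlgSt.RepByAlgSp1 f := by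
    intro V y
    obtain ⟨V', j, w, hj, ⟨α⟩⟩ := hcov V y
    refine StkBG.repByAlgSp_of_cover (isFibSetoid_fp_of_faithful hQ h𝒳.isStack.1 f y)
      (isStack_fp _ (isStack_of_repByAlgSp (repByAlgSp_overCat V)) hst (isPrestack_of_isStack h𝒳.isStack))
      hj (FibCat.fpFst y f) ?_
    obtain ⟨E, hE, -⟩ := isEquivOver_symm (isEquivOver_fpPaste (AlgSt.overMap j) y f)
    exact repByAlgSp_of_equiv (isEquivOver_comp (isEquivOver_fpPaste w x f)
      (isEquivOver_comp (isEquivOver_fpCongr α (Iso.refl f)) hE)) (repWith_repByAlgSp1 hfst V' w)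
  exact ⟨locIm_iso h𝒳.isStack.1 _ _, isAlgStack_of_repByAlgSp1 hQ h𝒳 f hrep,
    StkBG.repWith_of_covLift (isLocalOnBase_fppf_of_fpqc
      Groth.AlgSp2.isLocalOnBase_fpqc_repWith_isClosedImmersion) hrep hcov hfst⟩

theorem redChart_smooth_surjective [IsClosedImmersion i.left] [IsReduced Z.left]
    (hx : AlgSt.RepByAlgSpWith (AlgSp.LocP @Smooth) x)
    (hxs : AlgSt.RepByAlgSpWith AlgSp.IsSurjectiveMor x) (T : Set (AlgSt.Points 𝒳))
    (hi : Set.range i.left.base = AlgSt.Points.ofChart x ⁻¹' T) :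
    AlgSt.RepByAlgSpWith (AlgSp.LocP @Smooth) (redChart (x := x) i) ∧
      AlgSt.RepByAlgSpWith AlgSp.IsSurjectiveMor (redChart (x := x) i) := by
  have he := isEquivOver_redLift h𝒳 i hx T hi
  exact ⟨(repWith_precomp_equiv he _).2 (repWith_fpSnd x _ hx),
    (repWith_precomp_equiv he _).2 (repWith_fpSnd x _ hxs)⟩

theorem range_redQ [IsClosedImmersion i.left] [IsReduced Z.left]
    (hx : AlgSt.RepByAlgSpWith (AlgSp.LocP @Smooth) x)
    (hxs : AlgSt.RepByAlgSpWith AlgSp.IsSurjectiveMor x) (T : Set (AlgSt.Points 𝒳))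
    (hi : Set.range i.left.base = AlgSt.Points.ofChart x ⁻¹' T) :
    Set.range (AlgSt.Points.map (AlgSt.subIncl 𝒳 (redQ x i))) = T := by
  have hfib := isFibGrpd_locIm h𝒳.isStack.1 (isFibGrpd_overCat Z)
    (BasedFunctor.comp (AlgSt.overMap i) x)
  have hs := surjective_ofChart hfib (redChart_smooth_surjective h𝒳 i hx hxs T hi).2
  have hpt : ∀ z : ↥Z.left, AlgSt.Points.map (AlgSt.subIncl 𝒳 (redQ x i))
      (AlgSt.Points.ofChart (redChart i) z) = AlgSt.Points.ofChart x (i.left z) := fun z => by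
    rw [← ofChart_overMap i x z, ofChart_eq_map (redChart i), ← map_comp,
      ofChart_eq_map (BasedFunctor.comp (AlgSt.overMap i) x)]
    rfl
  ext p
  constructor
  · rintro ⟨q, rfl⟩
    obtain ⟨z, rfl⟩ := hs q
    rw [hpt]
    have : i.left z ∈ Set.range i.left.base := ⟨z, rfl⟩
    rw [hi] at this
    exact this
  · intro hp
    obtain ⟨t, rfl⟩ := surjective_ofChart h𝒳.isStack.1 hxs p
    obtain ⟨z, rfl⟩ : t ∈ Set.range i.left.base := by rw [hi]; exact hp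
    exact ⟨_, hpt z⟩

end Sub

theorem smoothLocally_isReduced_of_atlas {U₀ : Over S} {x₀ : FibCat.overCat U₀ ⥤ᵇ 𝒳}
    (h₀ : AlgSt.RepByAlgSpWith (AlgSp.LocP @Smooth) x₀)
    (h₀s : AlgSt.RepByAlgSpWith AlgSp.IsSurjectiveMor x₀) (h : IsReduced U₀.left) :
    AlgSt.SmoothLocally (fun X => IsReduced X) 𝒳 := by
  intro U x hx
  obtain ⟨W, c, a, hc, hcs, ha⟩ := exists_common_chart h₀ h₀s hx
  have : IsReduced W.left := Groth.AlgSp2.isReduced_of_smooth_morphism a.left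
  exact Groth.Agf.isReduced_of_flat_surjective c.left

include h𝒳

/-- Every closed set of points carries a reduced closed substack. -/
theorem exists_reduced_closedSubstack (T : Set (AlgSt.Points 𝒳)) (hT : IsClosed T) :
    ∃ Q : 𝒳.obj → Prop, AlgSt.IsClosedSubstack 𝒳 Q Scheme.fppfPrecoverage ∧
      Set.range (AlgSt.Points.map (AlgSt.subIncl 𝒳 Q)) = T ∧
      AlgSt.SmoothLocally (fun X => IsReduced X) (AlgSt.fullSub 𝒳 Q) := by
  obtain ⟨U, x, hx, hxs⟩ := h𝒳.atlas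
  obtain ⟨Z, i, hi₁, hi₂, hi⟩ := exists_reduced_on U
    ⟨AlgSt.Points.ofChart x ⁻¹' T, hT.preimage (continuous_ofChart h𝒳 x)⟩
  obtain ⟨h₁, h₂⟩ := redChart_smooth_surjective h𝒳 i hx hxs T hi
  exact ⟨redQ x i, isClosedSubstack_redQ h𝒳 i hx hxs T hi, range_redQ h𝒳 i hx hxs T hi,
    smoothLocally_isReduced_of_atlas h₁ h₂ hi₂⟩

omit h𝒳 in
/-- The fibre of a closed substack over a scheme is a closed subscheme. -/
theorem exists_closed_fibre {Q : 𝒳.obj → Prop} (hX : FibCat.IsFibGrpd 𝒳.p)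
    (hiso : ObjectProperty.IsClosedUnderIsomorphisms Q) (hi : AlgSt.IsClosedImm (AlgSt.subIncl 𝒳 Q))
    {W : Over S} (y : FibCat.overCat W ⥤ᵇ 𝒳) :
    ∃ (Z : Over S) (snd : Z ⟶ W), IsClosedImmersion snd.left ∧
      ∀ ⦃V : Over S⦄ (k : V ⟶ W), Q (y.obj (Over.mk k)) ↔ ∃ l, l ≫ snd = k := by
  obtain ⟨F, e, he, hF⟩ := hi W y
  let i := AlgSt.subIncl 𝒳 Q
  let Φ := BasedFunctor.comp e (FibCat.fpFst y i)
  obtain ⟨Z, snd, fst, sq⟩ := hF.rep (𝟙 ((AlgSp.yon S).obj W))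
  have : IsIso fst := sq.isIso_fst_of_isIso
  have hw : fst ≫ AlgSt.spMapOfOver Φ = (AlgSp.yon S).map snd := sq.w.trans (Category.comp_id _)
  refine ⟨Z, snd, hF.property _ fst snd sq, fun V k => ⟨fun hQ => ?_, ?_⟩⟩
  · let o : (FibCat.fp y i).obj := fpMk (F := y) (G := i) (Over.mk k) ⟨y.obj (Over.mk k), hQ⟩ (Iso.refl _) (isVert_id _)
    obtain ⟨a, φ, hφ⟩ := exists_vert_preimage he o
    let v : a.base ⟶ V := eqToHom ((e.w_obj a).symm.trans hφ.obj_eq)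
    have hk : AlgSt.secHom Φ a = v ≫ k := by
      have h₁ : (φ.hom.hom.fst).left ≫ k = (Φ.obj a).hom := Over.w φ.hom.hom.fst
      have h₂ : (φ.hom.hom.fst).left = eqToHom hφ.obj_eq := hφ.map_eq
      rw [AlgSt.secHom, ← h₁, h₂, ← Category.assoc, eqToHom_trans]
    obtain ⟨l, hl⟩ := (AlgSp.yon S).map_surjective
      ((Groth.AlgSpBasic.yEquiv (U := a.base) (F := F.obj)).symm a.sec ≫ inv fst)
    refine ⟨inv v ≫ l, ?_⟩
    rw [Category.assoc, IsIso.inv_comp_eq]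
    refine (AlgSp.yon S).map_injective ?_
    rw [Functor.map_comp, hl, Category.assoc, ← hw, IsIso.inv_hom_id_assoc, ← hk]
    apply Groth.AlgSpBasic.yEquiv.injective
    refine ((AlgSp.J S).uliftYonedaEquiv_comp _ _).trans ?_
    refine Eq.trans (congrArg _ (Equiv.apply_symm_apply _ _)) ?_
    exact (GrothendieckTopology.uliftYonedaEquiv_uliftYoneda_map (AlgSp.J S) _).symm
  · rintro ⟨l, rfl⟩
    obtain ⟨z, ⟨α⟩⟩ := exists_lift_of_section y e ((AlgSp.yon S).map l ≫ fst) (l ≫ snd)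
      (by rw [Functor.map_comp, Category.assoc, hw])
    let g : (AlgSt.overMap (l ≫ snd)).obj (idObj V) ⟶ Over.mk (l ≫ snd) :=
      Over.homMk (𝟙 V) (by show 𝟙 _ ≫ l ≫ snd = 𝟙 _ ≫ l ≫ snd; rfl)
    let g' : Over.mk (l ≫ snd) ⟶ (AlgSt.overMap (l ≫ snd)).obj (idObj V) :=
      Over.homMk (𝟙 V) (by show 𝟙 _ ≫ 𝟙 _ ≫ l ≫ snd = l ≫ snd; simp)
    let ι : (AlgSt.overMap (l ≫ snd)).obj (idObj V) ≅ Over.mk (l ≫ snd) :=
      ⟨g, g', Over.OverMorphism.ext (Category.id_comp _), Over.OverMorphism.ext (Category.id_comp _)⟩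
    exact hiso.of_iso (isoApp α (idObj V) ≪≫ y.toFunctor.mapIso ι) (z.obj (idObj V)).property

/-- A reduced stack maps into a closed substack as soon as its points do. -/
theorem mem_of_range_subset {Q : 𝒳.obj → Prop}
    (hQ : AlgSt.IsClosedSubstack 𝒳 Q Scheme.fppfPrecoverage)
    (h𝒴 : AlgSt.IsAlgStack Scheme.fppfPrecoverage 𝒴)
    (hred : AlgSt.SmoothLocally (fun X => IsReduced X) 𝒴) (f : 𝒴 ⥤ᵇ 𝒳)
    (h : Set.range (AlgSt.Points.map f) ⊆ Set.range (AlgSt.Points.map (AlgSt.subIncl 𝒳 Q)))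
    (η : 𝒴.obj) : Q (f.obj η) := by
  obtain ⟨hiso, hA, hi⟩ := hQ
  obtain ⟨U, a, ha, has⟩ := h𝒴.atlas
  have hU : IsReduced U.left := hred U a ha
  have hchart : ∀ ⦃V : Over S⦄ (k : V ⟶ U), Q (f.obj (a.obj (Over.mk k))) := by
    obtain ⟨Z, snd, hc, hZ⟩ := exists_closed_fibre h𝒳.isStack.1 hiso hi (BasedFunctor.comp a f)
    have : Surjective snd.left := ⟨fun u => by
      obtain ⟨q, hq⟩ := h ⟨AlgSt.Points.map a (AlgSt.Points.ofChart (BasedFunctor.id _) u), rfl⟩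
      obtain ⟨t, ht, -⟩ := exists_points_fp hA.isStack.1 h𝒳.isStack.1 (isFibGrpd_overCat U)
        (AlgSt.subIncl 𝒳 Q) (BasedFunctor.comp a f) (AlgSt.Points.ofChart (BasedFunctor.id _) u) q
        (by rw [map_comp]; exact hq.symm)
      obtain ⟨p, rfl⟩ := AlgSt.Points.mk_surjective t
      let g : (FibCat.overCat U).obj := p.obj.obj.fst
      have hg : Q (f.obj (a.obj g)) := hiso.of_iso p.obj.obj.iso.symm p.obj.obj.snd.property
      obtain ⟨l, hl⟩ := (hZ g.hom).1 hg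
      have hu := congrArg (ptToScheme U) ht
      rw [ptToScheme_ofChart_id] at hu
      have hr : u ∈ Set.range g.hom.left.base := by rw [← hu]; exact ⟨_, rfl⟩
      obtain ⟨c, rfl⟩ := hr
      exact ⟨l.left c, by rw [← hl]; rfl⟩⟩
    have := isIso_of_isClosedImmersion_of_surjective snd.left
    have : IsIso snd := by
      have : IsIso ((Over.forget S).map snd) := inferInstanceAs (IsIso snd.left)
      exact isIso_of_reflects_iso snd (Over.forget S)
    exact fun V k => (hZ k).2 ⟨k ≫ inv snd, by simp⟩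
  let y := overFunctor h𝒴.isStack.1 η rfl
  obtain ⟨W', j, w, hj, ⟨α⟩⟩ := exists_cover_lift ha has _ y
  obtain ⟨Z, snd, hc, hZ⟩ := exists_closed_fibre h𝒳.isStack.1 hiso hi (BasedFunctor.comp y f)
  have : Mono snd := (Over.forget S).mono_of_mono_map (inferInstanceAs (Mono snd.left))
  have : Flat j.left := hj.flat
  have : LocallyOfFinitePresentation j.left := hj.lfp
  have : Surjective j.left := hj.surj
  obtain ⟨k, hk⟩ := exists_factor_of_covering (i := snd) (𝟙 (𝒴.p.obj η)) (generate_singleton_mem j)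
    (by
      rintro V _ ⟨_, m, _, ⟨⟩, rfl⟩
      rw [Category.comp_id]
      refine (hZ (m ≫ j)).1 ?_
      let g : (AlgSt.overMap j).obj (Over.mk m) ≅ Over.mk (m ≫ j) := Iso.refl _
      exact hiso.of_iso (f.toFunctor.mapIso (isoApp α (Over.mk m) ≪≫ y.toFunctor.mapIso g))
        (hchart (w.obj (Over.mk m)).hom))
  obtain ⟨ι, -⟩ := overFunctor_eval h𝒴.isStack.1 η rfl
  exact hiso.of_iso (f.toFunctor.mapIso ι) ((hZ (𝟙 _)).2 ⟨k, hk⟩)

end Groth.StkRed
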