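import Groth.Agent.AlgSp3.RedInduced
import Groth.Agent.AlgStBasic.LocalLift
import Groth.Agent.AlgSpBasic.Immersion
import Groth.Prelude.Def_StCoarse

/-!
# The categorical moduli space of a reduced stack is reduced

`π` factors through the reduced induced closed subspace on all points, which by universality is `M`.
-/

set_option autoImplicit false
set_option backward.isDefEq.respectTransparency false
set_option backward.isDefEq.respectTransparency.types false

universe u

open CategoryTheory CategoryTheory.Limits AlgebraicGeometry Opposite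
open Groth.StkBase Groth.AlgSpBasic AlgSp

noncomputable section

namespace Groth.StkRed

variable {S : Scheme.{u}}

/-- A surjective closed immersion of spaces lifts all points with values in reduced schemes. -/
theorem exists_lift_of_reduced {Z M : Sp S} {i : Z ⟶ M} (hi : RepWith @IsClosedImmersion i)
    (hs : Set.range (Points.map i) = Set.univ) {T : Over S} [IsReduced T.left]
    (g : (yon S).obj T ⟶ M) : ∃ l : (yon S).obj T ⟶ Z, l ≫ i = g := by
  obtain ⟨W, w, fst, sq⟩ := hi.rep g
  have : IsClosedImmersion w.left := hi.property g fst w sq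
  have : Surjective w.left := ⟨fun t => by
    have ht : t ∈ Set.range w.left := by
      rw [range_left_eq_preimage sq, hs]
      trivial
    exact ht⟩
  have : IsIso w.left := isIso_of_isClosedImmersion_of_surjective w.left
  have : IsIso ((Over.forget S).map w) := ‹IsIso w.left›
  have : IsIso w := isIso_of_reflects_iso w (Over.forget S)
  exact ⟨(yon S).map (inv w) ≫ fst, by rw [Category.assoc, sq.w, ← Category.assoc,
    ← Functor.map_comp, IsIso.inv_hom_id, CategoryTheory.Functor.map_id, Category.id_comp]⟩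

/-- The same for sections. -/
theorem exists_sec_of_reduced {Z M : Sp S} {i : Z ⟶ M} (hi : RepWith @IsClosedImmersion i)
    (hs : Set.range (Points.map i) = Set.univ) {T : Over S} (hT : IsReduced T.left)
    (s : M.obj.obj (op T)) : ∃ a : Z.obj.obj (op T), i.hom.app _ a = s := by
  obtain ⟨g, rfl⟩ : ∃ g : (yon S).obj T ⟶ M, (J S).uliftYonedaEquiv g = s :=
    Equiv.surjective _ s
  obtain ⟨l, rfl⟩ := exists_lift_of_reduced hi hs g
  exact ⟨(J S).uliftYonedaEquiv l, rfl⟩

/-- A section lifting locally along a monomorphism lifts. -/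
theorem exists_preimage_of_local {Z M : Sp S} (i : Z ⟶ M) [Mono i] {T : Over S} (s : M.obj.obj (op T))
    {R : Sieve T} (hR : R ∈ J S T)
    (h : ∀ ⦃V : Over S⦄ (f : V ⟶ T), R f → ∃ a, i.hom.app (op V) a = M.obj.map f.op s) :
    ∃ a, i.hom.app (op T) a = s := by
  have : Mono i.hom := (sheafToPresheaf _ _).map_mono i
  have hinj : ∀ V, Function.Injective (i.hom.app V) := fun V =>
    (mono_iff_injective _).1 ((NatTrans.mono_iff_mono_app i.hom).1 this V)
  choose a ha using h
  have hsh := (isSheaf_iff_isSheaf_of_type _ _).1 Z.property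
  have hM := (isSheaf_iff_isSheaf_of_type _ _).1 M.property
  let x : Presieve.FamilyOfElements Z.obj R.arrows := fun V f hf => a f hf
  have hx : x.Compatible := by
    rw [Presieve.compatible_iff_sieveCompatible]
    intro V W f g hf
    refine hinj _ ?_
    rw [ha, NatTrans.naturality_apply, ha, map_op_comp]
  obtain ⟨b, hb, -⟩ := hsh R hR x hx
  refine ⟨b, (hM.isSeparated R hR).ext fun V f hf => ?_⟩
  rw [← NatTrans.naturality_apply, hb f hf, ha]

variable {𝒳 : AlgSt.Cat S} {M : Sp S}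

/-- The section at the source of a morphism is liftable if that at the target is. -/
theorem lift_of_hom {Z : Sp S} {i : Z ⟶ M} (π : 𝒳 ⥤ᵇ AlgSt.ofSp M) {η ξ : 𝒳.obj} (φ : η ⟶ ξ)
    (h : ∃ a, i.hom.app _ a = secOf π ξ) : ∃ a, i.hom.app _ a = secOf π η := by
  obtain ⟨a, ha⟩ := h
  exact ⟨Z.obj.map (𝒳.p.map φ).op a, by rw [NatTrans.naturality_apply, ha]; exact secOf_map π φ⟩

/-- On a reduced stack every object maps to a section of a surjective closed subspace. -/
theorem exists_lift_secOf (hX : FibCat.IsFibGrpd 𝒳.p) {U : Over S} {x : FibCat.overCat U ⥤ᵇ 𝒳}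
    (hU : IsReduced U.left)
    (h₁ : AlgSt.RepByAlgSpWith (LocP @Flat) x)
    (h₂ : AlgSt.RepByAlgSpWith (LocP @LocallyOfFinitePresentation) x)
    (h₃ : AlgSt.RepByAlgSpWith IsSurjectiveMor x)
    {Z : Sp S} {i : Z ⟶ M} (hi : RepWith @IsClosedImmersion i) [Mono i]
    (hs : Set.range (Points.map i) = Set.univ) (π : 𝒳 ⥤ᵇ AlgSt.ofSp M) (ξ : 𝒳.obj) :
    ∃ a, i.hom.app _ a = secOf π ξ := by
  have hbase : ∀ g, ∃ a, i.hom.app _ a = secOf π (x.obj g) := fun g =>
    lift_of_hom π (x.map (toId g)) (exists_sec_of_reduced hi hs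
      (by rw [show 𝒳.p.obj (x.obj (idObj U)) = U from x.w_obj _]; exact hU) _)
  let y := overFunctor hX ξ rfl
  obtain ⟨R, hR, hR'⟩ := AlgStBasic.exists_lift_of_fppf_surjective h₁ h₂ h₃ (𝒳.p.obj ξ) y
  refine exists_preimage_of_local i _ hR fun V f hf => ?_
  obtain ⟨z, ⟨α⟩⟩ := hR' f hf
  obtain ⟨e, he⟩ := overFunctor_eval hX ξ rfl
  have hη : ∃ a, i.hom.app _ a = secOf π (y.obj ((AlgSt.overMap f).obj (idObj V))) :=
    lift_of_hom π (isoApp α (idObj V)).inv (hbase (z.obj (idObj V)))
  let φ : y.obj ((AlgSt.overMap f).obj (idObj V)) ⟶ ξ := y.map (toId _) ≫ e.hom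
  obtain ⟨a, ha⟩ := hη
  have hp : 𝒳.p.obj (y.obj ((AlgSt.overMap f).obj (idObj V))) = V := y.w_obj _
  have hφ : eqToHom hp.symm ≫ 𝒳.p.map φ = f := by
    rw [Functor.map_comp, map_map, he.map_eq]
    simp only [Category.assoc, eqToHom_trans_assoc, eqToHom_refl, Category.id_comp, eqToHom_trans,
      Category.comp_id]
    exact Category.id_comp f
  refine ⟨Z.obj.map (eqToHom hp.symm).op a, ?_⟩
  rw [NatTrans.naturality_apply, ha, ← secOf_map π φ, map_op_comp, hφ]

/-- The categorical moduli space of a reduced algebraic stack is reduced. -/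
theorem etaleLocally_isReduced_of_isCatModuli (hX : FibCat.IsFibGrpd 𝒳.p) {U : Over S}
    {x : FibCat.overCat U ⥤ᵇ 𝒳} (hU : IsReduced U.left)
    (h₁ : AlgSt.RepByAlgSpWith (LocP @Flat) x)
    (h₂ : AlgSt.RepByAlgSpWith (LocP @LocallyOfFinitePresentation) x)
    (h₃ : AlgSt.RepByAlgSpWith IsSurjectiveMor x)
    (π : 𝒳 ⥤ᵇ AlgSt.ofSp M) (hπ : AlgSt.IsCatModuli π) :
    EtaleLocally (fun U => IsReduced U) M := by
  obtain ⟨Z, i, hZ, hi, hrange, hred⟩ := AlgSp3.exists_isRedInduced hπ.1 isClosed_univ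
  have : Mono i := mono_of_repWith
    (fun _ _ g (hg : IsClosedImmersion g) => (inferInstance : Mono g)) hi
  choose s hs using exists_lift_secOf hX hU h₁ h₂ h₃ hi hrange π
  have : Mono i.hom := (sheafToPresheaf _ _).map_mono i
  let φ : 𝒳 ⥤ᵇ AlgSt.ofSp Z :=
    { toFunctor :=
        { obj := fun ξ => (⟨𝒳.p.obj ξ, s ξ⟩ : Stk.EltObj Z.obj)
          map := fun {a b} f => eltHom (a := (⟨𝒳.p.obj a, s a⟩ : Stk.EltObj Z.obj))
            (b := (⟨𝒳.p.obj b, s b⟩ : Stk.EltObj Z.obj)) (𝒳.p.map f)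
            ((mono_iff_injective _).1 ((NatTrans.mono_iff_mono_app i.hom).1 this _) (by
              rw [NatTrans.naturality_apply]
              erw [hs, hs]
              exact secOf_map π f))
          map_id := fun a => elt_hom_ext_p (𝒳.p.map_id a)
          map_comp := fun f g => elt_hom_ext_p (𝒳.p.map_comp f g) }
      w := rfl }
  obtain ⟨g, ⟨α⟩, -⟩ := hπ.2 Z hZ φ
  obtain ⟨β⟩ : Nonempty (BasedFunctor.comp φ (AlgSt.ofSpMap i) ≅ π) := by
    refine nonempty_iso_of_secOf _ fun ξ => ?_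
    refine Eq.trans ?_ (hs ξ)
    exact map_op_id M.obj _ (by simp) _
  have hgi : g ≫ i = 𝟙 M := (hπ.2 M hπ.1 π).unique
    ⟨(whiskerRightIso α (AlgSt.ofSpMap i)).trans β⟩ ⟨Iso.refl _⟩
  have : IsSplitEpi i := ⟨⟨⟨g, hgi⟩⟩⟩
  have : IsIso i := isIso_of_mono_of_isSplitEpi i
  obtain ⟨V, p, hp, hps, hV⟩ := hred
  refine ⟨V, p ≫ i, ?_, ?_, hV⟩
  · exact ((RepWith @Etale).cancel_right_of_respectsIso p i).2 hp
  · exact ((RepWith @Surjective).cancel_right_of_respectsIso p i).2 hps

end Groth.StkRed
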