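import Groth.Agent.AlgStBasic.LocalLift
import Groth.Agent.AlgStBasic.Atlas
import Groth.Agent.AlgSpBasic.DiagProps
import Groth.Agent.AlgSpBasic.Proper
import Groth.Agent.AlgSp2.CancelSep
import Groth.Agent.AlgSp2.AffineDescent
import Groth.Agent.AlgSp2.FpqcRep
import Groth.Agent.StkGerb.Coarse
import Groth.Agent.StkRed.CatModuliRed
import Mathlib.AlgebraicGeometry.ZariskisMainTheorem

/-!
# A separated map of a reduced stack with a section, bijective on geometric points, is coarse
-/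

set_option autoImplicit false
set_option backward.isDefEq.respectTransparency false
set_option backward.isDefEq.respectTransparency.types false

universe u

open CategoryTheory CategoryTheory.Limits AlgebraicGeometry Opposite
open Groth.StkBase Groth.AlgSpBasic AlgSp

noncomputable section

namespace Groth.StkRed

variable {S : Scheme.{u}}

/-- Universal closedness passes to the second factor over a surjection. -/
theorem univClosed_of_comp_surjective {A B C : Sp S} (hA : IsAlgSpace A) (hB : IsAlgSpace B)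
    (hC : IsAlgSpace C) (q : A ⟶ B) (e : B ⟶ C) (hq : IsSurjectiveMor q)
    (h : IsUnivClosedMor (q ≫ e)) : IsUnivClosedMor e := by
  intro Z Z' hZ g fst snd sq
  have hZ' : IsAlgSpace Z' := isAlgSpace_of_isPullback sq hC.diag hB hZ
  have sq' := IsPullback.of_hasPullback q fst
  have hA' : IsAlgSpace (pullback q fst) := isAlgSpace_of_isPullback sq' hB.diag hA hZ'
  have hs : Function.Surjective (Points.map (pullback.snd q fst)) :=
    AlgStBasic.stableBaseChange_surjective hA hB hA' hZ' q fst _ _ sq' hq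
  have hcl : IsClosedMap (Points.map (pullback.snd q fst ≫ snd)) := h hZ g _ _ (sq'.paste_vert sq)
  intro C' hC'
  have e' : Points.map snd '' C' =
      Points.map (pullback.snd q fst ≫ snd) '' (Points.map (pullback.snd q fst) ⁻¹' C') := by
    conv_lhs => rw [← Set.image_preimage_eq C' hs]
    rw [← Set.image_comp]
    exact Set.image_congr' fun x => (Points.map_comp _ _ x).symm
  rw [e']
  exact hcl _ (hC'.preimage (Points.continuous_map _))

/-- Two sections over a reduced scheme agree if they agree on a proper surjective space over it. -/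
theorem eq_of_proper_surjective {N F : Sp S} (hN : IsAlgSpace N) (hF : IsAlgSpace F) {U : Over S}
    [IsReduced U.left] (a b : (yon S).obj U ⟶ N) (p : F ⟶ (yon S).obj U) (hp : IsProperMor p)
    (hs : IsSurjectiveMor p) (he : p ≫ a = p ≫ b) : a = b := by
  obtain ⟨E, e, fst, sq⟩ := hN.diag (prod.lift a b)
  obtain ⟨hm, hl⟩ : MonoLFT e.left := (monoLFT_diag hN).property _ fst e sq
  have : Mono e.left := hm
  have : LocallyOfFiniteType e.left := hl
  have h₁ : fst = (yon S).map e ≫ a := by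
    have := sq.w =≫ prod.fst
    simpa using this
  have h₂ : fst = (yon S).map e ≫ b := by
    have := sq.w =≫ prod.snd
    simpa using this
  let q : F ⟶ (yon S).obj E := sq.lift (p ≫ a) p (by
    apply Limits.prod.hom_ext <;> simp [he])
  have hq : q ≫ (yon S).map e = p := sq.lift_snd _ _ _
  have hinj : ∀ y y' : Points ((yon S).obj E),
      Points.map ((yon S).map e) y = Points.map ((yon S).map e) y' → y = y' := by
    intro y y' h
    obtain ⟨t, rfl⟩ := (Points.schemeHomeo E).surjective y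
    obtain ⟨t', rfl⟩ := (Points.schemeHomeo E).surjective y'
    rw [Points.map_yon_map_apply, Points.map_yon_map_apply] at h
    exact congrArg _ (e.left.injective ((Points.schemeHomeo U).injective h))
  have hsq : IsSurjectiveMor q := fun y => by
    obtain ⟨z, hz⟩ := hs (Points.map ((yon S).map e) y)
    exact ⟨z, hinj _ _ (by rw [← Points.map_comp, hq, hz])⟩
  have hu : IsUnivClosedMor ((yon S).map e) :=
    univClosed_of_comp_surjective hF (IsAlgSpace.yon_obj E) (IsAlgSpace.yon_obj U) q _ hsq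
      (by rw [hq]; exact hp.2.2)
  have : UniversallyClosed e.left := (repWith_yon_map_iff _ e).1
    ((AlgSp2.repWith_universallyClosed_iff
      (representable_of_diag (IsAlgSpace.yon_obj U).diag ((yon S).map e))).2 hu)
  have : IsProper e.left := {}
  have : IsClosedImmersion e.left := (IsClosedImmersion.iff_isProper_and_mono e.left).2 ⟨inferInstance, hm⟩
  have : Surjective e.left := ⟨fun t => by
    obtain ⟨z, hz⟩ := hs (Points.schemeHomeo U t)
    obtain ⟨v, hv⟩ := (Points.schemeHomeo E).surjective (Points.map q z)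
    refine ⟨v, (Points.schemeHomeo U).injective ?_⟩
    rw [← Points.map_yon_map_apply, hv, ← Points.map_comp, hq, hz]⟩
  have : IsIso e.left := isIso_of_isClosedImmersion_of_surjective e.left
  have : IsIso ((Over.forget S).map e) := ‹IsIso e.left›
  have : IsIso e := isIso_of_reflects_iso e (Over.forget S)
  rw [← cancel_epi ((yon S).map e), ← h₁, h₂]

variable {𝒳 𝒴 : AlgSt.Cat S} {N : Sp S}

/-- Sections of a composite. -/
theorem secOf_comp (F : 𝒳 ⥤ᵇ 𝒴) (G : 𝒴 ⥤ᵇ AlgSt.ofSp N) (a : 𝒳.obj) :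
    secOf (BasedFunctor.comp F G) a = N.obj.map (eqToHom (F.w_obj a).symm).op (secOf G (F.obj a)) := by
  refine Eq.trans ?_ (map_op_comp N.obj (eqToHom (F.w_obj a).symm)
    (eqToHom (G.w_obj (F.obj a)).symm) _).symm
  rw [eqToHom_trans]
  rfl

theorem secOf_comp_eq (F : 𝒳 ⥤ᵇ 𝒴) {G G' : 𝒴 ⥤ᵇ AlgSt.ofSp N} (a : 𝒳.obj)
    (h : secOf G (F.obj a) = secOf G' (F.obj a)) :
    secOf (BasedFunctor.comp F G) a = secOf (BasedFunctor.comp F G') a := by
  rw [secOf_comp, secOf_comp, h]

theorem secOf_eq_of_comp_eq (F : 𝒳 ⥤ᵇ 𝒴) {G G' : 𝒴 ⥤ᵇ AlgSt.ofSp N} (a : 𝒳.obj)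
    (h : secOf (BasedFunctor.comp F G) a = secOf (BasedFunctor.comp F G') a) :
    secOf G (F.obj a) = secOf G' (F.obj a) := by
  rw [secOf_comp, secOf_comp] at h
  have h' := congrArg (N.obj.map (eqToHom (F.w_obj a)).op) h
  rwa [map_op_comp, map_op_comp, map_op_id _ _ (eqToHom_trans _ _),
    map_op_id _ _ (eqToHom_trans _ _)] at h'

theorem secOf_eq_of_hom {φ ψ : 𝒳 ⥤ᵇ AlgSt.ofSp N} {η ξ : 𝒳.obj} (θ : η ⟶ ξ)
    (h : secOf φ ξ = secOf ψ ξ) : secOf φ η = secOf ψ η := by
  rw [← secOf_map φ θ, ← secOf_map ψ θ, h]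

/-- Restriction of the section of a functor on a slice. -/
theorem map_secOf_idObj {U : Over S} (Φ : FibCat.overCat U ⥤ᵇ AlgSt.ofSp N)
    (v : (FibCat.overCat U).obj) :
    N.obj.map v.hom.op (secOf Φ (idObj U)) = secOf Φ v :=
  secOf_map Φ (toId v)

theorem yEquiv_yon_map {F : Sp S} {T U : Over S} (c : T ⟶ U) (g : (yon S).obj U ⟶ F) :
    yEquiv ((yon S).map c ≫ g) = F.obj.map c.op (yEquiv g) :=
  ((J S).uliftYonedaEquiv_naturality g c).symm

variable {Z : Sp S} (f : 𝒳 ⥤ᵇ AlgSt.ofSp Z) (s : AlgSt.ofSp Z ⥤ᵇ 𝒳)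

/-- The two functors agree on objects coming from the section. -/
theorem secOf_eq_of_sec (e : BasedFunctor.comp s f ≅ BasedFunctor.id (AlgSt.ofSp Z))
    (φ : 𝒳 ⥤ᵇ AlgSt.ofSp N) (w : (AlgSt.ofSp Z).obj) :
    secOf (BasedFunctor.comp (BasedFunctor.comp f s) φ) (s.obj w) = secOf φ (s.obj w) :=
  secOf_eq_of_comp_eq s w (secOf_eq_of_iso (whiskerRightIso e (BasedFunctor.comp s φ)) w)

/-- A functor to an algebraic space factors through the map with a section. -/
theorem secOf_eq_on_reduced (hX : FibCat.IsFibGrpd 𝒳.p) (hN : IsAlgSpace N)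
    (e : BasedFunctor.comp s f ≅ BasedFunctor.id (AlgSt.ofSp Z))
    (hs : AlgSt.RepByAlgSpWith IsProperMor s) (hf : AlgSt.GeomPtBij f)
    (φ : 𝒳 ⥤ᵇ AlgSt.ofSp N) {U : Over S} [IsReduced U.left] (x : FibCat.overCat U ⥤ᵇ 𝒳)
    (v : (FibCat.overCat U).obj) :
    secOf (BasedFunctor.comp (BasedFunctor.comp f s) φ) (x.obj v) = secOf φ (x.obj v) := by
  let ψ := BasedFunctor.comp (BasedFunctor.comp f s) φ
  suffices h : secOf (BasedFunctor.comp x ψ) (idObj U) = secOf (BasedFunctor.comp x φ) (idObj U) by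
    refine secOf_eq_of_comp_eq x v ?_
    exact (map_secOf_idObj (BasedFunctor.comp x ψ) v).symm.trans
      ((congrArg _ h).trans (map_secOf_idObj (BasedFunctor.comp x φ) v))
  let a : (yon S).obj U ⟶ N := yEquiv.symm (secOf (BasedFunctor.comp x ψ) (idObj U))
  let b : (yon S).obj U ⟶ N := yEquiv.symm (secOf (BasedFunctor.comp x φ) (idObj U))
  suffices hab : a = b from yEquiv.symm.injective hab
  obtain ⟨F, eF, heF, hp⟩ := hs U x
  let Φ := BasedFunctor.comp eF (FibCat.fpFst x s)
  let p := AlgSt.spMapOfOver Φ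
  have hpt : ∀ (T : Over S) (z : (yon S).obj T ⟶ F.obj),
      z ≫ p = (yon S).map (AlgSt.secHom Φ ⟨T, yEquiv z⟩) := fun T z => by
    refine yEquiv.injective ?_
    rw [AlgSp2.yEquiv_comp, AlgSt.spMapOfOver_app]
    exact ((J S).uliftYonedaEquiv_uliftYoneda_map _).symm
  refine eq_of_proper_surjective hN F.property a b p hp ?_ ?_
  · -- surjectivity: geometric points lift
    intro y
    obtain ⟨u, rfl⟩ := (Points.schemeHomeo U).surjective y
    let Ω := AlgebraicClosure (U.left.residueField u)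
    let g : Spec (CommRingCat.of Ω) ⟶ U.left :=
      Spec.map (CommRingCat.ofHom (algebraMap (U.left.residueField u) Ω)) ≫
        U.left.fromSpecResidueField u
    let c : Over.mk (g ≫ U.hom) ⟶ U := Over.homMk g rfl
    let η : 𝒳.p.Fiber (Over.mk (g ≫ U.hom)) := ⟨x.obj (Over.mk c), x.w_obj _⟩
    let η' : 𝒳.p.Fiber (Over.mk (g ≫ U.hom)) :=
      StkGerb.fibMap s (StkGerb.fibMap f η)
    have hη : AlgSt.fibSec f η = AlgSt.fibSec f η' :=
      (StkGerb.fibSec_eq_of_vert (x := η') (y := η) (π := f) (π' := f)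
        (isoApp e (f.obj η.1)).hom (isVert_isoApp e _)).symm
    obtain ⟨i⟩ := (hf Ω _).2 η η' hη
    have hi : IsVert 𝒳.p i.hom.1 := isVert_of_isHomLift i.hom.2
    have := hi.isIso hX
    obtain ⟨d, ⟨j, hj⟩⟩ := exists_vert_preimage heF
      (fpMk (F := x) (G := s) (Over.mk c) (f.obj η.1) (asIso i.hom.1) hi)
    let z : (yon S).obj d.base ⟶ F.obj := yEquiv.symm d.sec
    let t₀ : ↥(Over.mk (g ≫ U.hom)).left := IsLocalRing.closedPoint Ω
    have hd : d.base = Over.mk (g ≫ U.hom) :=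
      (eF.w_obj d).symm.trans (hj.obj_eq.trans rfl)
    let t : ↥d.base.left := (eqToHom hd.symm : Over.mk (g ≫ U.hom) ⟶ d.base).left t₀
    refine ⟨Points.ofPt z t, ?_⟩
    have hw := Over.w j.hom.hom.fst
    have hv : AlgSt.secHom Φ d = eqToHom hd ≫ c := by
      show eqToHom _ ≫ _ = _
      refine (congrArg (eqToHom _ ≫ ·) hw.symm).trans ?_
      show eqToHom _ ≫ (FibCat.fp x s).p.map j.hom ≫ c = _
      rw [hj.map_eq]
      simp
    have hgt : g t₀ = u := by
      show U.left.fromSpecResidueField u _ = u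
      exact U.left.fromSpecResidueField_apply u _
    have hz : yEquiv z = d.sec := yEquiv.apply_symm_apply _
    have hv' : AlgSt.secHom Φ (⟨d.base, yEquiv z⟩ : (AlgSt.ofSp F.obj).obj) = eqToHom hd ≫ c := by
      rw [hz]
      exact hv
    rw [ofPt_eq_map, ← Points.map_comp, hpt, hv']
    refine (Points.map_yon_map_apply _ _).trans ?_
    refine congrArg _ ?_
    show ((eqToHom hd.symm : _ ⟶ d.base) ≫ eqToHom hd ≫ c).left t₀ = u
    rw [eqToHom_trans_assoc, eqToHom_refl, Category.id_comp]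
    exact hgt
  · refine AlgSp2.hom_ext_yon fun T z => ?_
    rw [← Category.assoc, ← Category.assoc, hpt]
    refine yEquiv.injective ?_
    rw [yEquiv_yon_map, yEquiv_yon_map, Equiv.apply_symm_apply, Equiv.apply_symm_apply]
    let o := eF.obj ⟨T, yEquiv z⟩
    have key : secOf (BasedFunctor.comp x ψ) o.obj.fst = secOf (BasedFunctor.comp x φ) o.obj.fst :=
      secOf_comp_eq x _ (secOf_eq_of_hom o.obj.iso.hom (secOf_eq_of_sec f s e φ o.obj.snd))
    have key' := ((map_secOf_idObj (BasedFunctor.comp x ψ) o.obj.fst).trans key).trans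
      (map_secOf_idObj (BasedFunctor.comp x φ) o.obj.fst).symm
    have k2 := congrArg (N.obj.map (eqToHom (Φ.w_obj ⟨T, yEquiv z⟩).symm).op) key'
    exact (map_op_comp N.obj (eqToHom (Φ.w_obj ⟨T, yEquiv z⟩).symm) o.obj.fst.hom _).symm.trans
      (k2.trans (map_op_comp N.obj _ _ _))

theorem map_secOf_eq {A B : 𝒳 ⥤ᵇ AlgSt.ofSp N} {η ξ : 𝒳.obj} (θ : η ⟶ ξ) {V : Over S}
    {k : V ⟶ 𝒳.p.obj ξ} (hp : 𝒳.p.obj η = V) (hθ : eqToHom hp.symm ≫ 𝒳.p.map θ = k)
    (h : secOf A η = secOf B η) :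
    N.obj.map k.op (secOf A ξ) = N.obj.map k.op (secOf B ξ) := by
  subst hθ
  rw [← map_op_comp, ← map_op_comp, secOf_map, secOf_map, h]

/-- A map of a reduced stack with a section, proper diagonal and bijective on geometric points is coarse. -/
theorem isCoarseModuli_of_section (hX : FibCat.IsFibGrpd 𝒳.p) {U : Over S}
    {x : FibCat.overCat U ⥤ᵇ 𝒳} [IsReduced U.left]
    (h₁ : AlgSt.RepByAlgSpWith (LocP @Flat) x)
    (h₂ : AlgSt.RepByAlgSpWith (LocP @LocallyOfFinitePresentation) x)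
    (h₃ : AlgSt.RepByAlgSpWith IsSurjectiveMor x)
    (hZ : IsAlgSpace Z) (hf₁ : AlgSt.IsSeparatedMor f) (hf : AlgSt.GeomPtBij f)
    (e : BasedFunctor.comp s f ≅ BasedFunctor.id (AlgSt.ofSp Z)) : AlgSt.IsCoarseModuli f := by
  refine ⟨⟨hZ, fun N hN φ => ?_⟩, hf⟩
  have hs := AlgStBasic.repWith_section_of_diag s e hf₁
  let g : Z ⟶ N := ObjectProperty.homMk (pshMapOf (BasedFunctor.comp s φ))
  obtain ⟨β⟩ := nonempty_iso_pshMapOf (BasedFunctor.comp s φ)
  obtain ⟨α⟩ : Nonempty (BasedFunctor.comp (BasedFunctor.comp f s) φ ≅ φ) := by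
    refine nonempty_iso_of_secOf _ fun ξ => ?_
    let y := overFunctor hX ξ rfl
    obtain ⟨R, hR, hR'⟩ := AlgStBasic.exists_lift_of_fppf_surjective h₁ h₂ h₃ (𝒳.p.obj ξ) y
    refine (((isSheaf_iff_isSheaf_of_type _ _).1 N.property).isSeparated R hR).ext fun V k hk => ?_
    obtain ⟨z, ⟨γ⟩⟩ := hR' k hk
    obtain ⟨i, hi⟩ := overFunctor_eval hX ξ rfl
    have h0 := secOf_eq_of_hom (φ := BasedFunctor.comp (BasedFunctor.comp f s) φ) (ψ := φ)
      (isoApp γ (idObj V)).inv
      (secOf_eq_on_reduced f s hX hN e hs hf φ x (z.obj (idObj V)))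
    let θ : y.obj ((AlgSt.overMap k).obj (idObj V)) ⟶ ξ := y.map (toId _) ≫ i.hom
    have hp : 𝒳.p.obj (y.obj ((AlgSt.overMap k).obj (idObj V))) = V := y.w_obj _
    have hθ : eqToHom hp.symm ≫ 𝒳.p.map θ = k := by
      rw [Functor.map_comp, map_map, hi.map_eq]
      simp only [Category.assoc, eqToHom_trans_assoc, eqToHom_refl, Category.id_comp,
        eqToHom_trans, Category.comp_id]
      exact Category.id_comp k
    exact map_secOf_eq θ hp hθ h0
  refine ⟨g, ⟨(whiskerLeftIso f β.symm).trans α⟩, ?_⟩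
  rintro g' ⟨γ⟩
  apply ObjectProperty.hom_ext
  have h := pshMapOf_eq_of_iso
    ((whiskerRightIso e (AlgSt.ofSpMap g')).symm.trans (whiskerLeftIso s γ))
  exact (pshMapOf_ofPshMap g'.hom).symm.trans h

end Groth.StkRed
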